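import Mathlib.RingTheory.Regular.RegularSequence
import Mathlib.RingTheory.Ideal.MinimalPrime.Localization
import Mathlib.RingTheory.Localization.AtPrime.Basic
import Mathlib.Tactic.LinearCombination

/-!
Commutative algebra for extension of sections in depth one and two.
-/

set_option autoImplicit false
universe u v w

namespace K821.FlatPur

/-- `x, y` is a weakly regular sequence, in elementary terms. -/
structure RegPair {B : Type*} [CommRing B] (x y : B) : Prop where
  fst : ∀ b, x * b = 0 → b = 0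
  snd : ∀ b c, y * b = x * c → ∃ d, b = x * d

theorem RegPair.of_isWeaklyRegular {B : Type*} [CommRing B] {x y : B}
    (h : RingTheory.Sequence.IsWeaklyRegular B [x, y]) : RegPair x y := by
  rw [RingTheory.Sequence.isWeaklyRegular_cons_iff, RingTheory.Sequence.isWeaklyRegular_singleton_iff] at h
  obtain ⟨h1, h2⟩ := h
  refine ⟨fun b hb => h1 (by simpa using hb), fun b c hbc => ?_⟩
  have := @h2 (Submodule.Quotient.mk b : QuotSMulTop x B) 0 (by
    simp only [smul_zero]
    rw [← Submodule.Quotient.mk_smul, Submodule.Quotient.mk_eq_zero]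
    rw [Submodule.mem_smul_pointwise_iff_exists]
    exact ⟨c, trivial, by simp [hbc]⟩)
  rw [Submodule.Quotient.mk_eq_zero, Submodule.mem_smul_pointwise_iff_exists] at this
  obtain ⟨d, -, hd⟩ := this
  exact ⟨d, hd.symm⟩

theorem RegPair.pow {B : Type*} [CommRing B] {x y : B} (h : RegPair x y) (n m : ℕ) :
    RegPair (x ^ n) (y ^ m) := by
  refine ⟨?_, ?_⟩
  · induction n with
    | zero => intro b hb; simpa using hb
    | succ n ih => intro b hb; exact h.fst _ (ih _ (by rw [← hb]; ring))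
  · -- first y ^ m on x
    have h1 : ∀ m : ℕ, ∀ b c, y ^ m * b = x * c → ∃ d, b = x * d := by
      intro m
      induction m with
      | zero => intro b c hbc; exact ⟨c, by simpa using hbc⟩
      | succ m ih =>
        intro b c hbc
        obtain ⟨d, hd⟩ := ih (y * b) c (by rw [← hbc]; ring)
        exact h.snd _ _ hd
    induction n with
    | zero => intro b c hbc; exact ⟨b, by simp⟩
    | succ n ih =>
      intro b c hbc
      obtain ⟨d, hd⟩ := h1 m b (x ^ n * c) (by rw [hbc]; ring)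
      obtain ⟨e, he⟩ := ih d c (by
        have : x * (y ^ m * d - x ^ n * c) = 0 := by
          rw [hd] at hbc
          linear_combination hbc
        exact sub_eq_zero.mp (h.fst _ this))
      exact ⟨e, by rw [hd, he]; ring⟩

theorem RegPair.mul_units {B : Type*} [CommRing B] {x y u v : B} (h : RegPair x y) (hu : IsUnit u)
    (hv : IsUnit v) : RegPair (x * u) (y * v) := by
  obtain ⟨u, rfl⟩ := hu
  obtain ⟨v, rfl⟩ := hv
  refine ⟨fun b hb => ?_, fun b c hbc => ?_⟩
  · have h1 : x * (u * b) = 0 := by rw [← hb]; ring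
    have h2 := h.fst _ h1
    rwa [Units.mul_right_eq_zero] at h2
  · obtain ⟨d, hd⟩ := h.snd (v * b) (u * c) (by linear_combination hbc)
    refine ⟨(↑v⁻¹ : B) * ↑u⁻¹ * d, ?_⟩
    calc b = (↑v⁻¹ : B) * (v * b) := by rw [Units.inv_mul_cancel_left]
      _ = (↑v⁻¹ : B) * (x * d) := by rw [hd]
      _ = (↑v⁻¹ : B) * (x * ((u : B) * (↑u⁻¹ * d))) := by rw [Units.mul_inv_cancel_left]
      _ = _ := by ring

variable {R : Type u} [CommRing R] {B : Type v} [CommRing B] [Algebra R B]

/-- elements of the localization at a minimal prime of `J` -/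
theorem exists_pow_mul_eq (J p : Ideal R) [p.IsPrime] [IsLocalization.AtPrime B p]
    (hp : p ∈ J.minimalPrimes) (a : B) (ha : ¬ IsUnit a) :
    ∃ (N : ℕ) (j : R) (σ : R), j ∈ J ∧ σ ∉ p ∧ a ^ N * algebraMap R B σ = algebraMap R B j := by
  have hloc : IsLocalRing B := IsLocalization.AtPrime.isLocalRing B p
  have h1 := IsLocalization.AtPrime.radical_map_of_mem_minimalPrimes (A := B) p J hp
  have h2 : a ∈ (J.map (algebraMap R B)).radical := by
    rw [h1, IsLocalization.AtPrime.map_eq_maximalIdeal p B]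
    exact (IsLocalRing.mem_maximalIdeal _).mpr ha
  obtain ⟨N, hN⟩ := h2
  obtain ⟨⟨j, σ⟩, h3⟩ := (IsLocalization.mem_map_algebraMap_iff p.primeCompl B).mp hN
  exact ⟨N, j, σ, j.2, σ.2, h3⟩

theorem exists_mul_eq_zero (p : Ideal R) [p.IsPrime] [IsLocalization.AtPrime B p] {r : R}
    (h : algebraMap R B r = 0) : ∃ τ : R, τ ∉ p ∧ τ * r = 0 := by
  obtain ⟨τ, hτ⟩ := (IsLocalization.map_eq_zero_iff p.primeCompl B r).mp h
  exact ⟨τ, τ.2, hτ⟩

/-- Depth one: an element whose annihilator is contained in a prime minimal over it is not killed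
when there is a regular element in the maximal ideal of the local ring. -/
theorem depth_one {r : R} (J p : Ideal R) [p.IsPrime] [IsLocalization.AtPrime B p]
    (hJ : ∀ g : R, g ∈ J ↔ g * r = 0) (hp : p ∈ J.minimalPrimes) (a : B) (ha : ¬ IsUnit a)
    (hreg : ∀ b, a * b = 0 → b = 0) : False := by
  obtain ⟨N, j, σ, hj, hσ, h1⟩ := exists_pow_mul_eq J p hp a ha
  have hσu : IsUnit (algebraMap R B σ) := IsLocalization.map_units B (⟨σ, hσ⟩ : p.primeCompl)
  have h2 : a ^ N * algebraMap R B σ * algebraMap R B r = 0 := by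
    rw [h1, ← map_mul, (hJ j).mp hj, map_zero]
  have h3 : ∀ (n : ℕ) (b : B), a ^ n * b = 0 → b = 0 := by
    intro n
    induction n with
    | zero => intro b hb; simpa using hb
    | succ n ih => intro b hb; exact hreg _ (ih _ (by rw [← hb]; ring))
  have h4 : algebraMap R B σ * algebraMap R B r = 0 := h3 N _ (by rw [← h2]; ring)
  have h5 : algebraMap R B r = 0 := by
    obtain ⟨s, hs⟩ := hσu
    rw [← hs, Units.mul_right_eq_zero] at h4
    exact h4
  obtain ⟨τ, hτ, h6⟩ := exists_mul_eq_zero p h5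
  exact hτ (hp.1.2 ((hJ τ).mpr h6))

/-- Depth two. -/
theorem depth_two {S : Type w} [CommRing S] (ρ : R →+* S) (hρ : Function.Injective ρ) (s : S)
    (J p : Ideal R) [p.IsPrime] [IsLocalization.AtPrime B p]
    (hJ : ∀ g : R, g ∈ J ↔ ∃ t : R, ρ t = ρ g * s) (hp : p ∈ J.minimalPrimes)
    (a b : B) (ha : ¬ IsUnit a) (hb : ¬ IsUnit b) (hreg : RegPair a b)
    (htor : ∀ (α : R) (h : S), (∀ c : B, algebraMap R B α * c = 0 → c = 0) → ρ α * h = 0 →
      ∃ τ : R, τ ∉ p ∧ ρ τ * h = 0) : False := by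
  obtain ⟨N, j, σ, hj, hσ, h1⟩ := exists_pow_mul_eq J p hp a ha
  obtain ⟨M, k, σ', hk, hσ', h2⟩ := exists_pow_mul_eq J p hp b hb
  have hσu : IsUnit (algebraMap R B σ) := IsLocalization.map_units B (⟨σ, hσ⟩ : p.primeCompl)
  have hσu' : IsUnit (algebraMap R B σ') := IsLocalization.map_units B (⟨σ', hσ'⟩ : p.primeCompl)
  have hpair : RegPair (algebraMap R B j) (algebraMap R B k) := by
    rw [← h1, ← h2]
    exact (hreg.pow N M).mul_units hσu hσu'
  obtain ⟨tj, htj⟩ := (hJ j).mp hj
  obtain ⟨tk, htk⟩ := (hJ k).mp hk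
  have h3 : k * tj = j * tk := by
    apply hρ
    rw [map_mul, map_mul, htj, htk]
    ring
  obtain ⟨d, hd⟩ := hpair.snd (algebraMap R B tj) (algebraMap R B tk) (by
    rw [← map_mul, ← map_mul, h3])
  obtain ⟨⟨w, τ⟩, hw⟩ := IsLocalization.surj p.primeCompl d
  have h4 : algebraMap R B ((τ : R) * tj - j * w) = 0 := by
    rw [map_sub, map_mul, map_mul, hd, ← hw]
    ring
  obtain ⟨τ', hτ', h5⟩ := exists_mul_eq_zero p h4
  obtain ⟨τ'', hτ'', h6⟩ := htor j (ρ (τ' * τ) * s - ρ (τ' * w)) hpair.fst (by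
    have h7 : ρ (τ' * ((τ : R) * tj - j * w)) = 0 := by rw [h5, map_zero]
    simp only [map_mul, map_sub] at h7 ⊢
    rw [htj] at h7
    linear_combination h7)
  have h8 : τ'' * (τ' * τ) ∈ J := by
    rw [hJ]
    refine ⟨τ'' * (τ' * w), ?_⟩
    simp only [map_mul, map_sub] at h6 ⊢
    linear_combination -h6
  have h9 : τ'' * (τ' * τ) ∉ p := by
    intro hmem
    rcases (inferInstance : p.IsPrime).mem_or_mem hmem with h | h
    · exact hτ'' h
    · rcases (inferInstance : p.IsPrime).mem_or_mem h with h | h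
      · exact hτ' h
      · exact τ.2 h
  exact h9 (hp.1.2 h8)

end K821.FlatPur
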