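import Mathlib.AlgebraicGeometry.Morphisms.QuasiSeparated
import Mathlib.Algebra.Regular.SMul
import Groth.Agent.FlatPur.K821.Alg

/-!
Sections over an open subset of an affine scheme whose complement has depth at least one or two.
-/

set_option autoImplicit false
universe u

open AlgebraicGeometry CategoryTheory TopologicalSpace Opposite

namespace K821.FlatPur

variable {X : Scheme.{u}}

/-- restriction of global sections -/
noncomputable def res (U : X.Opens) : Γ(X, ⊤) →+* Γ(X, U) := (X.presheaf.map (homOfLE le_top).op).hom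

theorem germ_res (U : X.Opens) (x : X) (hx : x ∈ U) (r : Γ(X, ⊤)) :
    X.presheaf.germ U x hx (res U r) = X.presheaf.germ ⊤ x trivial r :=
  TopCat.Presheaf.germ_res_apply X.presheaf (homOfLE le_top) x hx r

/-- The local ring at the point of an affine scheme attached to a prime of the ring of global sections. -/
theorem exists_point [IsAffine X] (p : Ideal Γ(X, ⊤)) [hp : p.IsPrime] :
    ∃ z : X, ∃ _ : Algebra Γ(X, ⊤) (X.presheaf.stalk z), IsLocalization.AtPrime (X.presheaf.stalk z) p ∧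
      ∀ r : Γ(X, ⊤), algebraMap Γ(X, ⊤) (X.presheaf.stalk z) r = X.presheaf.germ ⊤ z trivial r :=
  ⟨(isAffineOpen_top X).fromSpec ⟨p, hp⟩,
    TopCat.Presheaf.algebra_section_stalk X.presheaf (U := ⊤) ⟨(isAffineOpen_top X).fromSpec ⟨p, hp⟩, trivial⟩,
    (isAffineOpen_top X).isLocalization_stalk' ⟨p, hp⟩ trivial, fun _ => rfl⟩

theorem injective_res [IsAffine X] (U : X.Opens)
    (hZ : ∀ z : X, z ∉ U → ∃ a ∈ IsLocalRing.maximalIdeal (X.presheaf.stalk z),
      ∀ b : X.presheaf.stalk z, a * b = 0 → b = 0) : Function.Injective (res U) := by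
  rw [injective_iff_map_eq_zero]
  intro r hr
  by_contra hne
  let J : Ideal Γ(X, ⊤) := LinearMap.ker (LinearMap.toSpanSingleton Γ(X, ⊤) Γ(X, ⊤) r)
  have hJ : ∀ g, g ∈ J ↔ g * r = 0 := fun g => by
    simp [J, LinearMap.mem_ker, LinearMap.toSpanSingleton_apply]
  have hJtop : J ≠ ⊤ := by
    intro h
    have h1 := (hJ 1).mp (by rw [h]; trivial)
    exact hne (by simpa using h1)
  obtain ⟨m, hm, hJm⟩ := Ideal.exists_le_maximal J hJtop
  obtain ⟨p, hp, -⟩ := Ideal.exists_minimalPrimes_le hJm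
  have hpp : p.IsPrime := hp.1.1
  obtain ⟨z, alg, hloc, halg⟩ := exists_point p
  by_cases hz : z ∈ U
  · have h1 : algebraMap Γ(X, ⊤) (X.presheaf.stalk z) r = 0 := by
      rw [halg, ← germ_res U z hz, hr, map_zero]
    obtain ⟨τ, hτ, h2⟩ := exists_mul_eq_zero p h1
    exact hτ (hp.1.2 ((hJ τ).mpr h2))
  · obtain ⟨a, ha, hreg⟩ := hZ z hz
    exact depth_one J p hJ hp a ((IsLocalRing.mem_maximalIdeal _).mp ha) hreg

section

theorem map_map_apply {U V W : X.Opens} (i : W ≤ V) (j : V ≤ U) (r : Γ(X, U)) :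
    X.presheaf.map (homOfLE i).op (X.presheaf.map (homOfLE j).op r) =
      X.presheaf.map (homOfLE (i.trans j)).op r := by
  rw [← CommRingCat.comp_apply, ← Functor.map_comp]
  rfl

variable [IsAffine X] {U : X.Opens}

/-- A section over a basic open, as a fraction. -/
theorem exists_frac {U : X.Opens} (f : Γ(X, ⊤)) (hf : X.basicOpen f ≤ U) (h : Γ(X, U)) :
    ∃ (n : ℕ) (r : Γ(X, ⊤)), X.presheaf.map (homOfLE (X.basicOpen_le f)).op r =
      X.presheaf.map (homOfLE hf).op (res U f ^ n * h) := by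
  obtain ⟨n, y, hy⟩ := exists_eq_pow_mul_of_isAffineOpen X ⊤ (isAffineOpen_top X) f
    (X.presheaf.map (homOfLE hf).op h)
  refine ⟨n, y, ?_⟩
  refine (show _ = _ from hy).trans ?_
  rw [map_mul, map_pow]
  congr 2
  exact (map_map_apply hf le_top f).symm

omit [IsAffine X] in
theorem exists_pow_mul_of_isCompact (hU : IsCompact (U : Set X)) (f : Γ(X, ⊤)) (hf : X.basicOpen f ≤ U) (h : Γ(X, U))
    (hh : X.presheaf.map (homOfLE hf).op h = 0) : ∃ n : ℕ, res U f ^ n * h = 0 := by
  refine exists_pow_mul_eq_zero_of_res_basicOpen_eq_zero_of_isCompact X hU h (res U f) ?_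
  have hle : X.basicOpen (res U f) ≤ X.basicOpen f := by
    have := X.basicOpen_res f (homOfLE (le_top : U ≤ ⊤)).op
    exact this.le.trans inf_le_right
  have h1 := congrArg (X.presheaf.map (homOfLE hle).op) hh
  rw [map_zero, map_map_apply] at h1
  exact h1

/-- Elements killed by something regular at a point are killed by something invertible there. -/
theorem exists_kill (hU : IsCompact (U : Set X)) (p : Ideal Γ(X, ⊤)) [hp : p.IsPrime]
    {B : Type u} [CommRing B] [Algebra Γ(X, ⊤) B] [IsLocalization.AtPrime B p]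
    (α : Γ(X, ⊤)) (h : Γ(X, U)) (hα : ∀ c : B, algebraMap Γ(X, ⊤) B α * c = 0 → c = 0)
    (hαh : res U α * h = 0) : ∃ τ : Γ(X, ⊤), τ ∉ p ∧ res U τ * h = 0 := by
  classical
  have key : ∀ y ∈ (U : Set X), ∃ (f : Γ(X, ⊤)) (τ : Γ(X, ⊤)) (hf : X.basicOpen f ≤ U), y ∈ X.basicOpen f ∧
      τ ∉ p ∧ X.presheaf.map (homOfLE hf).op (res U τ * h) = 0 := by
    intro y hy
    obtain ⟨f, hf, hyf⟩ := (isAffineOpen_top X).exists_basicOpen_le ⟨y, hy⟩ trivial
    obtain ⟨n, r, hr⟩ := exists_frac f hf h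
    have h1 : X.presheaf.map (homOfLE (X.basicOpen_le f)).op (α * r) = 0 := by
      rw [map_mul, hr, map_mul]
      have h2 : X.presheaf.map (homOfLE (X.basicOpen_le f)).op α =
          X.presheaf.map (homOfLE hf).op (res U α) := (map_map_apply hf le_top α).symm
      rw [h2, mul_left_comm, ← map_mul, hαh, map_zero, mul_zero]
    obtain ⟨m, hm⟩ := exists_pow_mul_eq_zero_of_res_basicOpen_eq_zero_of_isCompact X
      (U := ⊤) (isAffineOpen_top X).isCompact (α * r) f h1
    have h3 : algebraMap Γ(X, ⊤) B (f ^ m * r) = 0 := by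
      apply hα
      rw [← map_mul, show α * (f ^ m * r) = f ^ m * (α * r) by ring, hm, map_zero]
    obtain ⟨τ, hτ, h4⟩ := exists_mul_eq_zero p h3
    refine ⟨f, τ, hf, hyf, hτ, ?_⟩
    have h5 : X.presheaf.map (homOfLE (X.basicOpen_le f)).op (τ * (f ^ m * r)) = 0 := by rw [h4, map_zero]
    rw [map_mul, map_mul, hr] at h5
    have h6 : IsUnit (X.presheaf.map (homOfLE (X.basicOpen_le f)).op f) :=
      RingedSpace.isUnit_res_basicOpen _ f
    have h7 : ∀ g : Γ(X, ⊤), X.presheaf.map (homOfLE (X.basicOpen_le f)).op g =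
          X.presheaf.map (homOfLE hf).op (res U g) := fun g => (map_map_apply hf le_top g).symm
    rw [h7] at h6
    rw [h7, map_pow, h7, map_mul, map_pow] at h5
    rw [map_mul]
    obtain ⟨v, hv⟩ := h6
    rw [← hv] at h5
    have h8 : (v : Γ(X, X.basicOpen f)) ^ (m + n) *
        (X.presheaf.map (homOfLE hf).op (res U τ) * X.presheaf.map (homOfLE hf).op h) = 0 := by
      rw [← h5]; ring
    have h9 : IsUnit ((v : Γ(X, X.basicOpen f)) ^ (m + n)) := v.isUnit.pow _
    exact (IsUnit.mul_right_eq_zero h9).mp h8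
  choose! f τ hf hyf hτ hkill using key
  obtain ⟨t, ht⟩ := hU.elim_nhds_subcover' (fun y _ => (X.basicOpen (f y) : Set X))
    (fun y hy => (X.basicOpen (f y)).isOpen.mem_nhds (hyf y hy))
  refine ⟨∏ y ∈ t, τ y, ?_, ?_⟩
  · intro hmem
    obtain ⟨y, -, hy⟩ := (Ideal.IsPrime.prod_mem_iff).mp hmem
    exact hτ y y.2 hy
  · refine TopCat.Presheaf.section_ext X.sheaf U _ _ fun y hy => ?_
    refine Eq.trans ?_ (map_zero (X.presheaf.germ U y hy).hom).symm
    obtain ⟨w, hw, hyw⟩ := Set.mem_iUnion₂.mp (ht hy)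
    obtain ⟨hfw, h1⟩ : ∃ hfw : X.basicOpen (f w) ≤ U,
        X.presheaf.map (homOfLE hfw).op (res U (τ w) * h) = 0 := ⟨hf w w.2, hkill w w.2⟩
    have h2 : X.presheaf.germ U y hy (res U (τ w) * h) = 0 := by
      have h3 := TopCat.Presheaf.germ_res_apply X.presheaf (homOfLE hfw) y hyw (res U (τ w) * h)
      refine Eq.trans h3.symm ?_
      rw [h1, map_zero]
    have h4 : (∏ y ∈ t, τ y) = (∏ y ∈ t.erase w, τ y) * τ w := (Finset.prod_erase_mul t _ hw).symm
    change X.presheaf.germ U y hy (res U (∏ y ∈ t, τ y) * h) = 0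
    have h5 : res U (∏ y ∈ t, τ y) * h = res U (∏ y ∈ t.erase w, τ y) * (res U (τ w) * h) := by
      rw [h4, map_mul, mul_assoc]
    rw [h5, map_mul, h2, mul_zero]

theorem surjective_res (hU : IsCompact (U : Set X))
    (hZ : ∀ z : X, z ∉ U → ∃ a b : X.presheaf.stalk z, a ∈ IsLocalRing.maximalIdeal (X.presheaf.stalk z) ∧
      b ∈ IsLocalRing.maximalIdeal (X.presheaf.stalk z) ∧ RegPair a b) : Function.Surjective (res U) := by
  have hinj : Function.Injective (res U) := injective_res U fun z hz => by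
    obtain ⟨a, b, ha, -, hab⟩ := hZ z hz
    exact ⟨a, ha, hab.fst⟩
  intro s
  let J : Ideal Γ(X, ⊤) :=
    { carrier := {g | ∃ t, res U t = res U g * s}
      add_mem' := by
        rintro g g' ⟨t, ht⟩ ⟨t', ht'⟩
        exact ⟨t + t', by rw [map_add, map_add, ht, ht']; ring⟩
      zero_mem' := ⟨0, by rw [map_zero, zero_mul]⟩
      smul_mem' := by
        rintro c g ⟨t, ht⟩
        exact ⟨c * t, by rw [map_mul, smul_eq_mul, map_mul, ht]; ring⟩ }
  have hJ : ∀ g, g ∈ J ↔ ∃ t, res U t = res U g * s := fun g => Iff.rfl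
  by_contra hne
  have hJtop : J ≠ ⊤ := by
    intro h
    obtain ⟨t, ht⟩ := (hJ 1).mp (by rw [h]; trivial)
    exact hne ⟨t, by rw [ht, map_one, one_mul]⟩
  obtain ⟨m, hm, hJm⟩ := Ideal.exists_le_maximal J hJtop
  obtain ⟨p, hp, -⟩ := Ideal.exists_minimalPrimes_le hJm
  have hpp : p.IsPrime := hp.1.1
  obtain ⟨z, alg, hloc, halg⟩ := exists_point p
  by_cases hz : z ∈ U
  · obtain ⟨g, hg, hzg⟩ := (isAffineOpen_top X).exists_basicOpen_le ⟨z, hz⟩ trivial
    obtain ⟨n, r, hr⟩ := exists_frac g hg s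
    obtain ⟨m, hm⟩ := exists_pow_mul_of_isCompact hU g hg (res U r - res U g ^ n * s) (by
      rw [map_sub, ← hr]
      have : X.presheaf.map (homOfLE hg).op (res U r) = X.presheaf.map (homOfLE (X.basicOpen_le g)).op r :=
        map_map_apply hg le_top r
      rw [this, sub_self])
    have h1 : g ^ (m + n) ∈ J := by
      rw [hJ]
      refine ⟨g ^ m * r, ?_⟩
      rw [map_mul, map_pow, map_pow, pow_add]
      linear_combination hm
    have h2 : g ∈ p := hpp.mem_of_pow_mem _ (hp.1.2 h1)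
    have h3 : ¬ IsUnit (algebraMap Γ(X, ⊤) (X.presheaf.stalk z) g) := by
      rw [IsLocalization.AtPrime.isUnit_to_map_iff (X.presheaf.stalk z) p]
      exact fun h => h h2
    apply h3
    rw [halg]
    exact (X.mem_basicOpen g z trivial).mp hzg
  · obtain ⟨a, b, ha, hb, hab⟩ := hZ z hz
    exact depth_two (res U) hinj s J p hJ hp a b ((IsLocalRing.mem_maximalIdeal _).mp ha)
      ((IsLocalRing.mem_maximalIdeal _).mp hb) hab fun α h hα hαh => exists_kill hU p α h hα hαh

end

end K821.FlatPur
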