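import Mathlib.AlgebraicGeometry.Morphisms.Separated
import Mathlib.AlgebraicGeometry.Morphisms.ClosedImmersion
import Mathlib.AlgebraicGeometry.Morphisms.Affine
import Groth.Agent.FlatPur.K821.Aff

/-!
Extension of morphisms in depth one and two.
-/

set_option autoImplicit false
universe u

open AlgebraicGeometry CategoryTheory CategoryTheory.Limits TopologicalSpace Opposite

namespace K821.FlatPur

variable {X : Scheme.{u}}

theorem appTop_comp_topIso (U : X.Opens) :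
    U.ι.appTop ≫ U.topIso.hom = X.presheaf.map (homOfLE (le_top : U ≤ ⊤)).op :=
  (X.presheaf.map_comp _ _).symm

theorem res_eq (U : X.Opens) (r : Γ(X, ⊤)) : res U r = U.topIso.hom (U.ι.appTop r) := by
  rw [← CommRingCat.comp_apply, appTop_comp_topIso]
  rfl

theorem topIso_injective (U : X.Opens) : Function.Injective (U.topIso.hom) :=
  (ConcreteCategory.bijective_of_isIso U.topIso.hom).1

theorem appTop_eq_zero_iff (U : X.Opens) (r : Γ(X, ⊤)) : U.ι.appTop r = 0 ↔ res U r = 0 := by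
  rw [res_eq]
  constructor
  · intro h
    rw [h, map_zero]
  · intro h
    exact topIso_injective U (by rw [h, map_zero])

theorem eq_of_affine [IsAffine X] (U : X.Opens) (hinj : Function.Injective (res U)) {Y S : Scheme.{u}}
    (a b : X ⟶ Y) (f : Y ⟶ S) [IsSeparated f] (h : a ≫ f = b ≫ f) (hU : U.ι ≫ a = U.ι ≫ b) : a = b := by
  let q : X ⟶ pullback f f := pullback.lift a b h
  let P := pullback (pullback.diagonal f) q
  let i : P ⟶ X := pullback.snd _ _
  have hi : IsClosedImmersion i := inferInstance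
  have h1 : i ≫ a = i ≫ b := by
    have h2 : pullback.fst (pullback.diagonal f) q ≫ pullback.diagonal f = i ≫ q := pullback.condition
    have h3 := congrArg (· ≫ pullback.fst f f) h2
    have h4 := congrArg (· ≫ pullback.snd f f) h2
    simp only [Category.assoc, pullback.diagonal_fst, pullback.diagonal_snd, Category.comp_id, q,
      pullback.lift_fst, pullback.lift_snd] at h3 h4
    rw [← h3, ← h4]
  let l : (U : Scheme.{u}) ⟶ P := pullback.lift (U.ι ≫ a) U.ι (by
    apply pullback.hom_ext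
    · rw [Category.assoc, pullback.diagonal_fst, Category.comp_id, Category.assoc, pullback.lift_fst]
    · rw [Category.assoc, pullback.diagonal_snd, Category.comp_id, Category.assoc, pullback.lift_snd, hU])
  have hl : l ≫ i = U.ι := pullback.lift_snd _ _ _
  have hiso : IsIso i := by
    apply IsClosedImmersion.isIso_of_injective_of_isAffine
    rw [injective_iff_map_eq_zero i.appTop.hom]
    intro r hr
    have h5 : U.ι.appTop r = 0 := by
      rw [← hl, Scheme.Hom.comp_appTop, CommRingCat.comp_apply]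
      have h6 : i.appTop r = 0 := hr
      rw [h6, map_zero]
    rw [appTop_eq_zero_iff] at h5
    exact hinj (by rw [h5, map_zero])
  rw [← cancel_epi i]
  exact h1

/-- the depth one condition -/
def Reg1 (U : X.Opens) : Prop := ∀ z : X, z ∉ U → ∃ a ∈ IsLocalRing.maximalIdeal (X.presheaf.stalk z),
      ∀ b : X.presheaf.stalk z, a * b = 0 → b = 0

/-- the depth two condition -/
def Reg2 (U : X.Opens) : Prop := ∀ z : X, z ∉ U → ∃ a b : X.presheaf.stalk z,
  a ∈ IsLocalRing.maximalIdeal (X.presheaf.stalk z) ∧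
      b ∈ IsLocalRing.maximalIdeal (X.presheaf.stalk z) ∧ RegPair a b

theorem Reg2.reg1 {U : X.Opens} (h : Reg2 U) : Reg1 U := fun z hz => by
  obtain ⟨a, b, ha, -, hab⟩ := h z hz
  exact ⟨a, ha, hab.fst⟩

theorem RegPair.map {B C : Type*} [CommRing B] [CommRing C] (e : B ≃+* C) {x y : B} (h : RegPair x y) :
    RegPair (e x) (e y) := by
  refine ⟨fun b hb => ?_, fun b c hbc => ?_⟩
  · have h1 : x * e.symm b = 0 := by
      apply e.injective
      rw [map_mul, e.apply_symm_apply, hb, map_zero]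
    have h2 := h.fst _ h1
    rw [← e.apply_symm_apply b, h2, map_zero]
  · obtain ⟨d, hd⟩ := h.snd (e.symm b) (e.symm c) (by
      apply e.injective
      rw [map_mul, map_mul, e.apply_symm_apply, e.apply_symm_apply, hbc])
    exact ⟨e d, by rw [← map_mul, ← hd, e.apply_symm_apply]⟩

theorem mem_maximalIdeal_map {B C : Type*} [CommRing B] [CommRing C] [IsLocalRing B] [IsLocalRing C]
    (e : B ≃+* C) {x : B} (h : x ∈ IsLocalRing.maximalIdeal B) : e x ∈ IsLocalRing.maximalIdeal C := by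
  rw [IsLocalRing.mem_maximalIdeal, mem_nonunits_iff] at h ⊢
  intro hu
  apply h
  have := hu.map e.symm
  simpa using this

/-- the stalk isomorphism of an open immersion -/
noncomputable def stalkEquiv {W : Scheme.{u}} (g : W ⟶ X) [IsOpenImmersion g] (z : W) :
    X.presheaf.stalk (g z) ≃+* W.presheaf.stalk z :=
  (asIso (g.stalkMap z)).commRingCatIsoToRingEquiv

theorem Reg1.preimage {U : X.Opens} (h : Reg1 U) {W : Scheme.{u}} (g : W ⟶ X) [IsOpenImmersion g] :
    Reg1 (g ⁻¹ᵁ U) := fun z hz => by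
  obtain ⟨a, ha, hreg⟩ := h (g z) hz
  let e := stalkEquiv g z
  refine ⟨e a, mem_maximalIdeal_map e ha, fun b hb => ?_⟩
  have h1 : a * e.symm b = 0 := by
    apply e.injective
    rw [map_mul, e.apply_symm_apply, hb, map_zero]
  rw [← e.apply_symm_apply b, hreg _ h1, map_zero]

theorem Reg2.preimage {U : X.Opens} (h : Reg2 U) {W : Scheme.{u}} (g : W ⟶ X) [IsOpenImmersion g] :
    Reg2 (g ⁻¹ᵁ U) := fun z hz => by
  obtain ⟨a, b, ha, hb, hab⟩ := h (g z) hz
  let e := stalkEquiv g z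
  exact ⟨e a, e b, mem_maximalIdeal_map e ha, mem_maximalIdeal_map e hb, hab.map e⟩

/-- Two morphisms that agree on an open subscheme with complement of depth at least one agree. -/
theorem hom_ext {U : X.Opens} (hU1 : Reg1 U) {Y S : Scheme.{u}}
    (a b : X ⟶ Y) (f : Y ⟶ S) [IsSeparated f] (h : a ≫ f = b ≫ f) (hU : U.ι ≫ a = U.ι ≫ b) : a = b := by
  refine X.affineCover.hom_ext _ _ fun i => ?_
  refine eq_of_affine ((X.affineCover.f i) ⁻¹ᵁ U)
    (injective_res _ (hU1.preimage (X.affineCover.f i))) _ _ f (by simp [h]) ?_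
  rw [← morphismRestrict_ι_assoc, ← morphismRestrict_ι_assoc, hU]

/-- the affine case of the existence of an extension -/
theorem exists_ext_affine [IsAffine X] {U : X.Opens} (hU : IsCompact (U : Set X)) (hU2 : Reg2 U)
    {Y : Scheme.{u}} (f : Y ⟶ X) [IsAffineHom f] (t : (U : Scheme.{u}) ⟶ Y) (ht : t ≫ f = U.ι) :
    ∃ s : X ⟶ Y, s ≫ f = 𝟙 X ∧ U.ι ≫ s = t := by
  have hY : IsAffine Y := isAffine_of_isAffineHom f
  have hbij : Function.Bijective (U.ι.appTop) := by
    refine ⟨?_, ?_⟩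
    · rw [injective_iff_map_eq_zero U.ι.appTop.hom]
      intro r hr
      have h1 := (appTop_eq_zero_iff U r).mp hr
      exact injective_res U hU2.reg1 (by rw [h1, map_zero])
    · intro s
      obtain ⟨r, hr⟩ := surjective_res hU hU2 (U.topIso.hom s)
      refine ⟨r, ?_⟩
      rw [res_eq] at hr
      exact topIso_injective U hr
  have hiso : IsIso U.ι.appTop := by
    rw [ConcreteCategory.isIso_iff_bijective]
    exact hbij
  let ψ : Γ(Y, ⊤) ⟶ Γ(X, ⊤) := t.appTop ≫ inv U.ι.appTop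
  let s : X ⟶ Y := X.toSpecΓ ≫ Spec.map ψ ≫ Y.isoSpec.inv
  have hs : s.appTop = ψ := by
    have h1 : s ≫ Y.isoSpec.hom = X.isoSpec.hom ≫ Spec.map ψ := by
      simp only [s, Category.assoc, Iso.inv_hom_id, Category.comp_id]
      rfl
    have h2 := Scheme.isoSpec_hom_naturality s
    rw [h1] at h2
    exact Spec.map_injective ((cancel_epi X.isoSpec.hom).mp h2)
  refine ⟨s, ?_, ?_⟩
  · apply ext_of_isAffine
    rw [Scheme.Hom.comp_appTop, hs]
    simp only [ψ]
    rw [← Category.assoc, ← Scheme.Hom.comp_appTop, ht, IsIso.hom_inv_id]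
    rfl
  · apply ext_of_isAffine
    rw [Scheme.Hom.comp_appTop, hs]
    simp only [ψ]
    rw [Category.assoc, IsIso.inv_hom_id, Category.comp_id]

/-- Existence of the extension. -/
theorem exists_ext {U : X.Opens} [QuasiCompact U.ι] (hU2 : Reg2 U)
    {Y : Scheme.{u}} (f : Y ⟶ X) [IsAffineHom f] (t : (U : Scheme.{u}) ⟶ Y) (ht : t ≫ f = U.ι) :
    ∃ s : X ⟶ Y, s ≫ f = 𝟙 X ∧ U.ι ≫ s = t := by
  let 𝒰 := X.affineCover
  have key : ∀ i, ∃ s : 𝒰.X i ⟶ Y, s ≫ f = 𝒰.f i ∧
      ((𝒰.f i) ⁻¹ᵁ U).ι ≫ s = ((𝒰.f i) ∣_ U) ≫ t := by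
    intro i
    have hc : IsCompact (((𝒰.f i) ⁻¹ᵁ U : (𝒰.X i).Opens) : Set (𝒰.X i)) := by
      have hq : QuasiCompact ((𝒰.f i) ⁻¹ᵁ U).ι := by
        have := isPullback_morphismRestrict (𝒰.f i) U
        exact MorphismProperty.of_isPullback (P := @QuasiCompact) this inferInstance
      have : CompactSpace ((𝒰.f i) ⁻¹ᵁ U : (𝒰.X i).Opens) :=
        QuasiCompact.compactSpace_of_compactSpace ((𝒰.f i) ⁻¹ᵁ U).ι
      exact isCompact_iff_compactSpace.mpr this
    obtain ⟨s', h1, h2⟩ := exists_ext_affine hc (hU2.preimage (𝒰.f i)) (pullback.snd f (𝒰.f i))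
      (pullback.lift (((𝒰.f i) ∣_ U) ≫ t) ((𝒰.f i) ⁻¹ᵁ U).ι (by
        rw [Category.assoc, ht, morphismRestrict_ι])) (pullback.lift_snd _ _ _)
    refine ⟨s' ≫ pullback.fst _ _, ?_, ?_⟩
    · rw [Category.assoc, pullback.condition, ← Category.assoc, h1, Category.id_comp]
    · rw [← Category.assoc, h2, pullback.lift_fst]
  choose s hs1 hs2 using key
  have hglue : ∀ i j, pullback.fst (𝒰.f i) (𝒰.f j) ≫ s i = pullback.snd _ _ ≫ s j := by
    intro i j
    refine hom_ext (U := (pullback.fst (𝒰.f i) (𝒰.f j) ≫ 𝒰.f i) ⁻¹ᵁ U)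
      (hU2.reg1.preimage (pullback.fst (𝒰.f i) (𝒰.f j) ≫ 𝒰.f i)) _ _ f ?_ ?_
    · rw [Category.assoc, Category.assoc, hs1, hs1, pullback.condition]
    · have hi : ∀ (k : _) (g : pullback (𝒰.f i) (𝒰.f j) ⟶ 𝒰.X k) (hg : g ≫ 𝒰.f k = pullback.fst (𝒰.f i) (𝒰.f j) ≫ 𝒰.f i),
          ((pullback.fst (𝒰.f i) (𝒰.f j) ≫ 𝒰.f i) ⁻¹ᵁ U).ι ≫ g ≫ s k =
            ((pullback.fst (𝒰.f i) (𝒰.f j) ≫ 𝒰.f i) ∣_ U) ≫ t := by
        intro k g hg
        have e1 : ∀ (h : pullback (𝒰.f i) (𝒰.f j) ⟶ X), g ≫ 𝒰.f k = h →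
            (h ⁻¹ᵁ U).ι ≫ g ≫ s k = (h ∣_ U) ≫ t := by
          rintro _ rfl
          have e2 : ((g ≫ 𝒰.f k) ⁻¹ᵁ U).ι ≫ g = (g ∣_ ((𝒰.f k) ⁻¹ᵁ U)) ≫ ((𝒰.f k) ⁻¹ᵁ U).ι :=
            (morphismRestrict_ι g ((𝒰.f k) ⁻¹ᵁ U)).symm
          have e3 : ((g ≫ 𝒰.f k) ⁻¹ᵁ U).ι ≫ g ≫ s k =
              (g ∣_ ((𝒰.f k) ⁻¹ᵁ U)) ≫ (((𝒰.f k) ⁻¹ᵁ U).ι ≫ s k) := by
            rw [← Category.assoc, ← Category.assoc]
            exact congrArg (· ≫ s k) e2
          refine e3.trans ?_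
          rw [hs2, morphismRestrict_comp]
          exact (Category.assoc _ _ _).symm
        exact e1 _ hg
      rw [hi i _ rfl, hi j _ pullback.condition.symm]
  refine ⟨𝒰.glueMorphisms s hglue, ?_, ?_⟩
  · refine 𝒰.hom_ext _ _ fun i => ?_
    rw [← Category.assoc, Scheme.Cover.ι_glueMorphisms, hs1, Category.comp_id]
  · suffices hfin : ∀ i : 𝒰.I₀, pullback.fst U.ι (𝒰.f i) ≫ U.ι ≫ 𝒰.glueMorphisms s hglue =
        pullback.fst U.ι (𝒰.f i) ≫ t from Scheme.Cover.hom_ext (𝒰.pullback₁ U.ι) _ _ hfin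
    intro i
    rw [pullback.condition_assoc, Scheme.Cover.ι_glueMorphisms]
    have sq := isPullback_morphismRestrict (𝒰.f i) U
    have h1 : sq.lift (pullback.fst U.ι (𝒰.f i)) (pullback.snd U.ι (𝒰.f i)) pullback.condition ≫
        ((𝒰.f i) ⁻¹ᵁ U).ι = pullback.snd U.ι (𝒰.f i) := sq.lift_snd _ _ _
    have h2 : sq.lift (pullback.fst U.ι (𝒰.f i)) (pullback.snd U.ι (𝒰.f i)) pullback.condition ≫
        ((𝒰.f i) ∣_ U) = pullback.fst U.ι (𝒰.f i) := sq.lift_fst _ _ _
    rw [← h1, Category.assoc, hs2, ← Category.assoc, h2]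

end K821.FlatPur
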